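import Mathlib
import Cfsg.Prelude.Def_Transfer
import Cfsg.Agent.Lib.Helper24.BG36w
import Cfsg.Agent.Lib.Helper1.Coprime2
import Cfsg.Agent.Lib.Helper48.FF1
import Cfsg.Agent.Lib.Helper47.AxB

/-!
# BG 3.6, Theorem B: the nonabelian case (`bg36_nonab`)
-/

set_option autoImplicit false
set_option linter.unusedSectionVars false
set_option linter.unusedVariables false

namespace Cfsg.Agent.Lib.Helper98

open Subgroup
open scoped commutatorElement
open Cfsg.Agent.Lib.Helper24 (FrobFormula frob_formula)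

variable {X : Type*} [Group X]

/-- an element normalizing `H₁` and `H₂` normalizes `⁅H₁, H₂⁆` -/
theorem bgn_mem_normalizer_commutator {H₁ H₂ : Subgroup X} {g : X}
    (h1 : g ∈ normalizer (H₁ : Set X)) (h2 : g ∈ normalizer (H₂ : Set X)) :
    g ∈ normalizer ((⁅H₁, H₂⁆ : Subgroup X) : Set X) := by
  have key : ∀ g : X, g ∈ normalizer (H₁ : Set X) → g ∈ normalizer (H₂ : Set X) →
      ∀ x ∈ ⁅H₁, H₂⁆, g * x * g⁻¹ ∈ ⁅H₁, H₂⁆ := by
    intro g h1 h2 x hx
    have hle : ⁅H₁, H₂⁆ ≤ (⁅H₁, H₂⁆ : Subgroup X).comap (MulAut.conj g).toMonoidHom := by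
      rw [commutator_le]
      intro a ha b hb
      rw [mem_comap]
      have : (MulAut.conj g).toMonoidHom ⁅a, b⁆ = ⁅g * a * g⁻¹, g * b * g⁻¹⁆ := by
        simp only [MulEquiv.coe_toMonoidHom, MulAut.conj_apply, commutatorElement_def]
        group
      rw [this]
      exact commutator_mem_commutator ((mem_normalizer_iff.1 h1 a).1 ha)
        ((mem_normalizer_iff.1 h2 b).1 hb)
    simpa using hle hx
  rw [mem_normalizer_iff]
  intro x
  refine ⟨key g h1 h2 x, fun hx => ?_⟩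
  have := key g⁻¹ (inv_mem h1) (inv_mem h2) _ hx
  simpa [mul_assoc] using this

theorem bgn_le_normalizer_commutator {H₁ H₂ K : Subgroup X}
    (h1 : K ≤ normalizer (H₁ : Set X)) (h2 : K ≤ normalizer (H₂ : Set X)) :
    K ≤ normalizer ((⁅H₁, H₂⁆ : Subgroup X) : Set X) :=
  fun _ hg => bgn_mem_normalizer_commutator (h1 hg) (h2 hg)

/-- an element normalizing `H` normalizes `C(H)` -/
theorem bgn_mem_normalizer_centralizer {H : Subgroup X} {g : X}
    (h : g ∈ normalizer (H : Set X)) : g ∈ normalizer ((centralizer (H : Set X) : Subgroup X) : Set X) := by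
  have key : ∀ g : X, g ∈ normalizer (H : Set X) →
      ∀ x ∈ centralizer (H : Set X), g * x * g⁻¹ ∈ centralizer (H : Set X) := by
    intro g h x hx
    rw [mem_centralizer_iff]
    intro y hy
    have h1 : g⁻¹ * y * g ∈ H := by
      have := (mem_normalizer_iff.1 (inv_mem h) y).1 hy
      simpa using this
    have h2 := mem_centralizer_iff.1 hx _ h1
    calc y * (g * x * g⁻¹) = g * ((g⁻¹ * y * g) * x) * g⁻¹ := by group
      _ = g * (x * (g⁻¹ * y * g)) * g⁻¹ := by rw [h2]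
      _ = g * x * g⁻¹ * y := by group
  rw [mem_normalizer_iff]
  intro x
  refine ⟨key g h x, fun hx => ?_⟩
  have := key g⁻¹ (inv_mem h) _ hx
  simpa [mul_assoc] using this

theorem bgn_le_normalizer_centralizer {H K : Subgroup X} (h : K ≤ normalizer (H : Set X)) :
    K ≤ normalizer ((centralizer (H : Set X) : Subgroup X) : Set X) :=
  fun _ hg => bgn_mem_normalizer_centralizer (h hg)

theorem bgn_le_normalizer_inf {H₁ H₂ K : Subgroup X}
    (h1 : K ≤ normalizer (H₁ : Set X)) (h2 : K ≤ normalizer (H₂ : Set X)) :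
    K ≤ normalizer ((H₁ ⊓ H₂ : Subgroup X) : Set X) :=
  (le_inf h1 h2).trans Subgroup.inf_normalizer_le_normalizer_inf

theorem bgn_centralizer_le_normalizer {H K : Subgroup X} (h : K ≤ centralizer (H : Set X)) :
    K ≤ normalizer (H : Set X) := by
  intro g hg
  rw [mem_normalizer_iff]
  intro x
  have h1 := mem_centralizer_iff.1 (h hg)
  constructor
  · intro hx
    have : g * x * g⁻¹ = x := by rw [← h1 x hx]; group
    rwa [this]
  · intro hx
    have h2 := h1 _ hx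
    have : g * x * g⁻¹ = x := by
      have h3 : g * x * g⁻¹ * g = g * (g * x * g⁻¹) := h2
      have h4 : g * x = g * (g * x * g⁻¹) := by simpa using h3
      exact (mul_left_cancel h4).symm
    rwa [this] at hx

theorem bgn_le_centralizer_symm {H K : Subgroup X} (h : K ≤ centralizer (H : Set X)) :
    H ≤ centralizer (K : Set X) := by
  intro x hx
  rw [mem_centralizer_iff]
  intro y hy
  exact (mem_centralizer_iff.1 (h hy) x hx).symm

theorem bgn_commutator_eq_bot_of_le {H K : Subgroup X} (h : H ≤ centralizer (K : Set X)) :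
    ⁅H, K⁆ = ⊥ := by
  rw [commutator_eq_bot_iff_le_centralizer]
  exact h


theorem bgn_coprime [Finite X] {p q : ℕ} (hp : p.Prime) (hq : q.Prime) (hpq : p ≠ q)
    {H K : Subgroup X} (hH : IsPGroup p H) (hK : IsPGroup q K) :
    (Nat.card H).Coprime (Nat.card K) := by
  have : Fact p.Prime := ⟨hp⟩
  have : Fact q.Prime := ⟨hq⟩
  exact IsPGroup.coprime_card_of_ne p q hpq H K hH hK

theorem bgn_coprime_prime [Finite X] {p r : ℕ} (hp : p.Prime) (hr : r.Prime) (hpr : p ≠ r)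
    {H : Subgroup X} (hH : IsPGroup p H) : (Nat.card H).Coprime r := by
  have : Fact p.Prime := ⟨hp⟩
  obtain ⟨n, hn⟩ := IsPGroup.iff_card.1 hH
  rw [hn]
  exact Nat.Coprime.pow_left n ((Nat.coprime_primes hp hr).2 hpr)

/-- in a group of order prime to `n`, `v ^ n = 1` forces `v = 1` -/
theorem bgn_eq_one_of_pow [Finite X] {H : Subgroup X} {n : ℕ} (hc : (Nat.card H).Coprime n)
    {v : X} (hv : v ∈ H) (h : v ^ n = 1) : v = 1 := by
  have h1 : orderOf v ∣ n := orderOf_dvd_of_pow_eq_one h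
  have h2 : orderOf v ∣ Nat.card H := by
    have := orderOf_dvd_natCard (⟨v, hv⟩ : H)
    rwa [Subgroup.orderOf_mk] at this
  have h3 : orderOf v = 1 := Nat.eq_one_of_dvd_coprimes hc h2 h1
  exact orderOf_eq_one_iff.1 h3

/-- the counting lemma: an `A R₀`-invariant nontrivial subgroup `H` of `V` with `C_H(A) = 1` has
order `p ^ r`. -/
theorem bgn_card_pow [Finite X] [Group.IsSolvable X] (hF : FrobFormula X) {p r : ℕ} (hp : p.Prime)
    (hr : r.Prime) {V A R₀ H : Subgroup X} (hR₀ : Nat.card R₀ = r)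
    (hCV : Nat.card ↥(V ⊓ centralizer (R₀ : Set X)) = p)
    (hHV : H ≤ V) (hH1 : H ≠ ⊥) (hA1 : A ≠ ⊥)
    (hRA : R₀ ≤ normalizer (A : Set X)) (hfpf : A ⊓ centralizer (R₀ : Set X) = ⊥)
    (hAH : A ≤ normalizer (H : Set X)) (hRH : R₀ ≤ normalizer (H : Set X))
    (hHA : (Nat.card H).Coprime (Nat.card A)) (hHr : (Nat.card H).Coprime r)
    (hAr : (Nat.card A).Coprime r)
    (hHCA : H ⊓ centralizer (A : Set X) = ⊥) : Nat.card H = p ^ r := by
  have h := frob_formula hF hr hR₀ hA1 hRA hfpf hAH hRH hHA hHr hAr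
  have h1 : H ⊓ (centralizer (A : Set X) ⊓ centralizer (R₀ : Set X)) = ⊥ := by
    rw [← inf_assoc, hHCA, bot_inf_eq]
  rw [h1, hHCA, card_bot, one_pow, one_mul, mul_one] at h
  have h2 : Nat.card ↥(H ⊓ centralizer (R₀ : Set X)) ∣ p :=
    hCV ▸ card_dvd_of_le (inf_le_inf_right _ hHV)
  rcases (Nat.dvd_prime hp).1 h2 with h3 | h3
  · rw [h3, one_pow] at h
    exact absurd (card_eq_one.1 h) hH1
  · rw [h, h3]

theorem bgn_comm_aux (c g x : X) (hxc : x * c = c * x) (hx : x * ⁅c, g⁆ = ⁅c, g⁆ * x) :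
    Commute c ((x * g * x⁻¹)⁻¹ * g) := by
  have h1 : c * (x * g * x⁻¹) * c⁻¹ * (x * g * x⁻¹)⁻¹ = c * g * c⁻¹ * g⁻¹ := by
    have h0 : x * (c * g * c⁻¹ * g⁻¹) * x⁻¹ = c * g * c⁻¹ * g⁻¹ := by
      rw [← commutatorElement_def, hx]; group
    have h2 : x * (c * g * c⁻¹ * g⁻¹) * x⁻¹
        = (x * c * x⁻¹) * (x * g * x⁻¹) * (x * c * x⁻¹)⁻¹ * (x * g * x⁻¹)⁻¹ := by group
    have h3 : x * c * x⁻¹ = c := by rw [hxc]; group
    rw [h2, h3] at h0
    exact h0
  generalize x * g * x⁻¹ = g' at h1 ⊢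
  have h4 : g' * c⁻¹ * g'⁻¹ = g * c⁻¹ * g⁻¹ := by
    have := congrArg (fun t => c⁻¹ * t) h1
    simpa [mul_assoc] using this
  have h5 : c⁻¹ * (g'⁻¹ * g) = (g'⁻¹ * g) * c⁻¹ := by
    calc c⁻¹ * (g'⁻¹ * g) = g'⁻¹ * (g' * c⁻¹ * g'⁻¹) * g := by group
      _ = g'⁻¹ * (g * c⁻¹ * g⁻¹) * g := by rw [h4]
      _ = (g'⁻¹ * g) * c⁻¹ := by group
  exact Commute.inv_left_iff.1 h5

/-- **BG 3.6, Theorem B, nonabelian case.** -/
theorem bg36_nonab {X : Type*} [Group X] [Finite X] [Group.IsSolvable X] (hF : FrobFormula X)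
    {p q r : ℕ} (hp : p.Prime) (hq : q.Prime) (hr : r.Prime) (hpq : p ≠ q) (hpr : p ≠ r)
    (hqr : q ≠ r) (V Q P R₀ : Subgroup X) (hV : Cfsg.IsElementaryAbelian p V) (hQ : IsPGroup q Q)
    (hP : IsPGroup p P) (hR₀ : Nat.card R₀ = r) (hQV : Q ≤ normalizer (V : Set X))
    (hPV : P ≤ normalizer (V : Set X)) (hRV : R₀ ≤ normalizer (V : Set X))
    (hPQ : P ≤ normalizer (Q : Set X)) (hRQ : R₀ ≤ normalizer (Q : Set X))
    (hRP : R₀ ≤ normalizer (P : Set X)) (hfaith : Q ⊓ centralizer (V : Set X) = ⊥)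
    (hCP : P ⊓ centralizer (R₀ : Set X) = ⊥)
    (hCV : Nat.card ↥(V ⊓ centralizer (R₀ : Set X)) = p)
    (hZq : IsCyclic ↥(Q ⊓ centralizer (R₀ : Set X))) (hcomm : ⁅Q, P⁆ = Q)
    (hmin : ∀ Y : Subgroup X, Y ≤ Q → Y ≠ Q → P ≤ normalizer (Y : Set X) →
      R₀ ≤ normalizer (Y : Set X) → Y ≤ centralizer (P : Set X)) :
    ∀ a ∈ Q, ∀ b ∈ Q, a * b = b * a := by
  by_contra hna
  have : Fact p.Prime := ⟨hp⟩
  have hQ1 : Q ≠ ⊥ := by
    intro h
    apply hna
    intro a ha b hb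
    rw [h] at ha hb
    rw [mem_bot.1 ha, mem_bot.1 hb]
  have hP1 : P ≠ ⊥ := by
    intro h
    apply hQ1
    rw [← hcomm, h]
    exact commutator_bot_right Q
  have hVp : IsPGroup p V := by
    intro v
    refine ⟨1, ?_⟩
    apply Subtype.ext
    simpa using hV.2 v v.2
  have hRc : (Nat.card R₀).Coprime (Nat.card Q) := by
    rw [hR₀]; exact (bgn_coprime_prime hq hr hqr hQ).symm
  obtain ⟨Z, hZdef⟩ : ∃ Z : Subgroup X, Z = Q ⊓ centralizer (Q : Set X) := ⟨_, rfl⟩
  have hZQ : Z ≤ Q := hZdef ▸ inf_le_left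
  have hZCQ : Z ≤ centralizer (Q : Set X) := hZdef ▸ inf_le_right
  have hZne : Z ≠ Q := by
    intro h
    apply hna
    intro a ha b hb
    have h1 : a ∈ Z := h ▸ ha
    exact (mem_centralizer_iff.1 (hZCQ h1) b hb).symm
  have hPZ : P ≤ normalizer (Z : Set X) :=
    hZdef ▸ bgn_le_normalizer_inf hPQ (bgn_le_normalizer_centralizer hPQ)
  have hRZ : R₀ ≤ normalizer (Z : Set X) :=
    hZdef ▸ bgn_le_normalizer_inf hRQ (bgn_le_normalizer_centralizer hRQ)
  have hZP : Z ≤ centralizer (P : Set X) := hmin Z hZQ hZne hPZ hRZ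
  have hD : ⁅Q, Q⁆ < Q := Group.IsSolvable.commutator_lt_of_ne_bot hQ1
  have hDP : ⁅Q, Q⁆ ≤ centralizer (P : Set X) :=
    hmin _ hD.le hD.ne (bgn_le_normalizer_commutator hPQ hPQ) (bgn_le_normalizer_commutator hRQ hRQ)
  -- (1) class two
  have hDZ : ⁅Q, Q⁆ ≤ Z := by
    have h1 : ⁅⁅P, ⁅Q, Q⁆⁆, Q⁆ = ⊥ := by
      rw [bgn_commutator_eq_bot_of_le (bgn_le_centralizer_symm hDP), commutator_bot_left]
    have h2 : ⁅⁅⁅Q, Q⁆, Q⁆, P⁆ = ⊥ := by
      apply bgn_commutator_eq_bot_of_le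
      exact le_trans (commutator_mono hD.le le_rfl) hDP
    have h3 := commutator_commutator_eq_bot_of_rotate h1 h2
    rw [hcomm, commutator_eq_bot_iff_le_centralizer] at h3
    rw [hZdef]
    exact le_inf hD.le (bgn_le_centralizer_symm h3)
  have hZc : IsMulCommutative Z :=
    ⟨⟨fun a b => Subtype.ext ((mem_centralizer_iff.1 (hZCQ a.2) b (hZQ b.2)).symm)⟩⟩
  have hZq' : IsPGroup q Z := hQ.to_le hZQ
  -- (2) `R₀` centralizes `Z`
  have hZR : Z ≤ centralizer (R₀ : Set X) := by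
    by_contra hZR
    obtain ⟨A, hAdef⟩ : ∃ A : Subgroup X, A = ⁅Z, R₀⁆ := ⟨_, rfl⟩
    have hA1 : A ≠ ⊥ := by
      intro h
      apply hZR
      rw [hAdef, commutator_eq_bot_iff_le_centralizer] at h
      exact h
    have hAZ : A ≤ Z := hAdef ▸ le_normalizer_iff_commutator_le_left.1 hRZ
    have hAQ : A ≤ Q := hAZ.trans hZQ
    have hAq : IsPGroup q A := hQ.to_le hAQ
    have hAfpf : A ⊓ centralizer (R₀ : Set X) = ⊥ := by
      rw [hAdef]
      refine Cfsg.Agent.Lib.Helper48.commutator_inf_centralizer_eq_bot hZc hRZ ?_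
      intro v hv h
      rw [hR₀] at h
      exact bgn_eq_one_of_pow (bgn_coprime_prime hq hr hqr hZq') hv h
    have hRA : R₀ ≤ normalizer (A : Set X) := hAdef ▸ normalizer_commutator_ge_right Z R₀
    have hAV : A ≤ normalizer (V : Set X) := hAQ.trans hQV
    obtain ⟨W, hWdef⟩ : ∃ W : Subgroup X, W = ⁅V, A⁆ := ⟨_, rfl⟩
    have hWV : W ≤ V := hWdef ▸ le_normalizer_iff_commutator_le_left.1 hAV
    have hWp : IsPGroup p W := hVp.to_le hWV
    have hW1 : W ≠ ⊥ := by
      intro h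
      rw [hWdef, commutator_eq_bot_iff_le_centralizer] at h
      apply hA1
      rw [eq_bot_iff, ← hfaith]
      exact le_inf hAQ (bgn_le_centralizer_symm h)
    have hWCA : W ⊓ centralizer (A : Set X) = ⊥ := by
      rw [hWdef]
      refine Cfsg.Agent.Lib.Helper48.commutator_inf_centralizer_eq_bot hV.1 hAV ?_
      intro v hv h
      exact bgn_eq_one_of_pow (bgn_coprime hp hq hpq hVp hAq) hv h
    have hAW : A ≤ normalizer (W : Set X) := hWdef ▸ normalizer_commutator_ge_right V A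
    have hRW : R₀ ≤ normalizer (W : Set X) := hWdef ▸ bgn_le_normalizer_commutator hRV hRA
    have hAP : A ≤ centralizer (P : Set X) := hAZ.trans hZP
    have hPA : P ≤ centralizer (A : Set X) := bgn_le_centralizer_symm hAP
    have hPW : P ≤ normalizer (W : Set X) :=
      hWdef ▸ bgn_le_normalizer_commutator hPV (bgn_centralizer_le_normalizer hPA)
    have hAr : (Nat.card A).Coprime r := bgn_coprime_prime hq hr hqr hAq
    have hcW : Nat.card W = p ^ r :=
      bgn_card_pow hF hp hr hR₀ hCV hWV hW1 hA1 hRA hAfpf hAW hRW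
        (bgn_coprime hp hq hpq hWp hAq) (bgn_coprime_prime hp hr hpr hWp) hAr hWCA
    obtain ⟨H, hHdef⟩ : ∃ H : Subgroup X, H = W ⊓ centralizer (P : Set X) := ⟨_, rfl⟩
    have hHW : H ≤ W := hHdef ▸ inf_le_left
    have hHp : IsPGroup p H := hWp.to_le hHW
    have hH1 : H ≠ ⊥ := hHdef ▸ Cfsg.Agent.Lib.Helper47.inf_centralizer_ne_bot hWp hP hW1 hPW
    have hAH : A ≤ normalizer (H : Set X) :=
      hHdef ▸ bgn_le_normalizer_inf hAW
        (bgn_le_normalizer_centralizer (bgn_centralizer_le_normalizer hAP))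
    have hRH : R₀ ≤ normalizer (H : Set X) :=
      hHdef ▸ bgn_le_normalizer_inf hRW (bgn_le_normalizer_centralizer hRP)
    have hcH : Nat.card H = p ^ r :=
      bgn_card_pow hF hp hr hR₀ hCV (hHW.trans hWV) hH1 hA1 hRA hAfpf hAH hRH
        (bgn_coprime hp hq hpq hHp hAq) (bgn_coprime_prime hp hr hpr hHp) hAr
        (by rw [eq_bot_iff, ← hWCA]; exact inf_le_inf_right _ hHW)
    have hHWeq : H = W := eq_of_le_of_card_ge hHW (by rw [hcH, hcW])
    have hWP : W ≤ centralizer (P : Set X) := by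
      rw [← hHWeq, hHdef]; exact inf_le_right
    have hQA : Q ≤ centralizer (A : Set X) := bgn_le_centralizer_symm (hAZ.trans hZCQ)
    have hQW : Q ≤ normalizer (W : Set X) :=
      hWdef ▸ bgn_le_normalizer_commutator hQV (bgn_centralizer_le_normalizer hQA)
    have hQCW : ⁅Q, P⁆ ≤ centralizer (W : Set X) := by
      rw [commutator_le]
      intro g hg u hu
      have hu' : u ∈ centralizer (W : Set X) := bgn_le_centralizer_symm hWP hu
      have hg' := bgn_mem_normalizer_centralizer (hQW hg)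
      have h1 := (mem_normalizer_iff.1 hg' u).1 hu'
      rw [commutatorElement_def]
      exact mul_mem h1 (inv_mem hu')
    rw [hcomm] at hQCW
    apply hW1
    rw [eq_bot_iff, ← hWCA]
    exact le_inf le_rfl (bgn_le_centralizer_symm (hAQ.trans hQCW))
  -- (3) `C_Q(R₀) = Z`
  have hCZ : Q ⊓ centralizer (R₀ : Set X) ≤ Z := by
    intro c hc
    have hsup := Cfsg.Agent.Lib.Helper1.commutator_sup_centralizer R₀ Q hRQ hRc
      (Or.inr inferInstance)
    have h1 : ⁅Q, R₀⁆ ≤ centralizer ({c} : Set X) := by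
      rw [commutator_le]
      intro g hg x hx
      have hxc : x * c = c * x := mem_centralizer_iff.1 hc.2 x hx
      have hcg : ⁅c, g⁻¹⁆ ∈ centralizer (R₀ : Set X) :=
        hZR (hDZ (commutator_mem_commutator hc.1 (inv_mem hg)))
      have h2 := bgn_comm_aux c g⁻¹ x hxc (mem_centralizer_iff.1 hcg x hx)
      have h3 : (x * g⁻¹ * x⁻¹)⁻¹ * g⁻¹ = ⁅g, x⁆⁻¹ := by
        rw [commutatorElement_def]; group
      rw [h3] at h2
      rw [mem_centralizer_singleton_iff]
      exact (Commute.inv_right_iff.1 h2).symm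
    have h2 : Q ⊓ centralizer (R₀ : Set X) ≤ centralizer ({c} : Set X) := by
      intro d hd
      rw [mem_centralizer_singleton_iff]
      have h3 := hZq.isMulCommutative.is_comm.comm
        (⟨d, hd⟩ : ↥(Q ⊓ centralizer (R₀ : Set X))) ⟨c, hc⟩
      exact congrArg Subtype.val h3
    have h3 : Q ≤ centralizer ({c} : Set X) := by
      calc Q = ⁅Q, R₀⁆ ⊔ (Q ⊓ centralizer (R₀ : Set X)) := hsup.symm
        _ ≤ _ := sup_le h1 h2
    rw [hZdef]
    refine mem_inf.2 ⟨hc.1, ?_⟩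
    rw [mem_centralizer_iff]
    intro y hy
    exact mem_centralizer_singleton_iff.1 (h3 hy)
  have hCZeq : Q ⊓ centralizer (R₀ : Set X) = Z := le_antisymm hCZ (le_inf hZQ hZR)
  -- (4) the final count
  have h := frob_formula hF hr hR₀ hP1 hRP hCP hPQ hRQ (bgn_coprime hq hp hpq.symm hQ hP)
    (bgn_coprime_prime hq hr hqr hQ) (bgn_coprime_prime hp hr hpr hP)
  have h1 : Q ⊓ (centralizer (P : Set X) ⊓ centralizer (R₀ : Set X)) = Z := by
    apply le_antisymm
    · calc Q ⊓ (centralizer (P : Set X) ⊓ centralizer (R₀ : Set X))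
          ≤ Q ⊓ centralizer (R₀ : Set X) := inf_le_inf_left _ inf_le_right
        _ = Z := hCZeq
    · exact le_inf hZQ (le_inf hZP hZR)
  rw [h1, hCZeq] at h
  have h2 : Nat.card Q = Nat.card ↥(Q ⊓ centralizer (P : Set X)) :=
    Nat.eq_of_mul_eq_mul_left (pow_pos Nat.card_pos r) h
  have h3 : Q ⊓ centralizer (P : Set X) = Q := eq_of_le_of_card_ge inf_le_left h2.le
  have h4 : Q ≤ centralizer (P : Set X) := inf_eq_left.1 h3
  apply hQ1
  rw [← hcomm]
  exact bgn_commutator_eq_bot_of_le h4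

end Cfsg.Agent.Lib.Helper98
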