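import Mathlib

set_option autoImplicit false

namespace Cfsg.Agent.Lib.Helper98

/-- `H.subgroupOf K` is a maximal subgroup of `K` iff `H ≠ K` and there is no subgroup strictly
between `H` and `K`. -/
theorem isCoatom_subgroupOf_iff {G : Type*} [Group G] {H K : Subgroup G} (hHK : H ≤ K) :
    IsCoatom (H.subgroupOf K) ↔ H ≠ K ∧ ∀ L : Subgroup G, H ≤ L → L ≤ K → L = H ∨ L = K := by
  constructor
  · intro h
    refine ⟨?_, ?_⟩
    · rintro rfl
      exact h.1 (by simp)
    · intro L hHL hLK
      have h1 : H.subgroupOf K ≤ L.subgroupOf K := Subgroup.subgroupOf_mono K hHL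
      rcases h.le_iff.mp h1 with h2 | h2
      · right
        exact le_antisymm hLK (Subgroup.subgroupOf_eq_top.mp h2)
      · left
        have h3 := Subgroup.subgroupOf_inj.mp h2
        rwa [inf_eq_left.mpr hLK, inf_eq_left.mpr hHK] at h3
  · rintro ⟨hne, h⟩
    refine ⟨?_, ?_⟩
    · intro h1
      exact hne (le_antisymm hHK (Subgroup.subgroupOf_eq_top.mp h1))
    · intro L' hL'
      have hHL : H ≤ L'.map K.subtype := by
        intro x hx
        exact ⟨⟨x, hHK hx⟩, hL'.le (Subgroup.mem_subgroupOf.mpr hx), rfl⟩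
      have hLK : L'.map K.subtype ≤ K := by
        rintro _ ⟨y, _, rfl⟩
        exact y.2
      have hcm : (L'.map K.subtype).subgroupOf K = L' :=
        Subgroup.comap_map_eq_self_of_injective K.subtype_injective L'
      rcases h _ hHL hLK with h1 | h1
      · exfalso
        rw [h1] at hcm
        exact hL'.ne hcm
      · rw [h1] at hcm
        rw [← hcm]
        simp

end Cfsg.Agent.Lib.Helper98
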